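import Mathlib
import Cfsg.Agent.Helper2.RGD.Defs

set_option autoImplicit false
set_option linter.unusedSectionVars false
set_option linter.unusedVariables false

/-! Generic deletion argument for root group data (`Cfsg.Agent.RGD`): an element of `N̂` which
maps positive root subgroups to positive root subgroups lies in the torus `T`.

Extra axioms `IsRGDN`: the `n_s(u)` normalize `T`, `n_s(u) n_s(u') ∈ T`, and an element of `N̂`
mapping `U_{±s}` into `U_{±s'}` (`s`, `s'` simple) maps the `n_s(u)` to `n_{s'}(·)`. -/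

namespace Cfsg.Agent.RGD

variable {M : Type*} [Group M] {R : Type*} {D : Datum M R}

/-- the extra axioms for the deletion argument -/
structure IsRGDN (D : Datum M R) : Prop where
  /-- `n_s(u)` normalizes the torus -/
  nS_conj_T : ∀ s, D.Simple s → ∀ n ∈ D.nS s, ∀ t ∈ D.T, n * t * n⁻¹ ∈ D.T
  /-- `n_s(u) n_s(u') ∈ T` -/
  nS_mul : ∀ s, D.Simple s → ∀ n ∈ D.nS s, ∀ n' ∈ D.nS s, n * n' ∈ D.T
  /-- an element of `N̂` mapping `U_{±s}` into `U_{±s'}` maps `n_s(u)` to `n_{s'}(·)` -/
  nS_conj_nS : ∀ v ∈ D.Nh, ∀ s s', D.Simple s → D.Simple s' →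
    (∀ x ∈ D.U s, v * x * v⁻¹ ∈ D.U s') → (∀ x ∈ D.U (D.neg s), v * x * v⁻¹ ∈ D.U (D.neg s')) →
    ∀ n ∈ D.nS s, v * n * v⁻¹ ∈ D.nS s'

namespace DEL

/-- a word of Weyl elements of simple roots -/
def Wd (D : Datum M R) (L : List (R × M)) : Prop := ∀ p ∈ L, D.Simple p.1 ∧ p.2 ∈ D.nS p.1

/-- the product of a word -/
def wprod (L : List (R × M)) : M := (L.map Prod.snd).prod

/-- the permutation of the names of the roots attached to a word -/
def wperm (D : Datum M R) : List (R × M) → R → R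
  | [] => id
  | p :: L => fun r => D.refl p.1 (wperm D L r)

theorem wprod_nil : wprod ([] : List (R × M)) = 1 := rfl

theorem wprod_cons (p : R × M) (L : List (R × M)) : wprod (p :: L) = p.2 * wprod L := by
  simp [wprod]

theorem wprod_append (L L' : List (R × M)) : wprod (L ++ L') = wprod L * wprod L' := by
  simp [wprod]

theorem wperm_nil (r : R) : wperm D [] r = r := rfl

theorem wperm_cons (p : R × M) (L : List (R × M)) (r : R) :
    wperm D (p :: L) r = D.refl p.1 (wperm D L r) := rfl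

theorem wperm_append (L L' : List (R × M)) (r : R) :
    wperm D (L ++ L') r = wperm D L (wperm D L' r) := by
  induction L with
  | nil => rfl
  | cons p L ih => simp only [List.cons_append, wperm_cons, ih]

theorem Wd.tail {p : R × M} {L : List (R × M)} (h : Wd D (p :: L)) : Wd D L :=
  fun q hq => h q (List.mem_cons_of_mem _ hq)

theorem Wd.head {p : R × M} {L : List (R × M)} (h : Wd D (p :: L)) :
    D.Simple p.1 ∧ p.2 ∈ D.nS p.1 := h p List.mem_cons_self

theorem Wd.cons {p : R × M} {L : List (R × M)} (hp : D.Simple p.1 ∧ p.2 ∈ D.nS p.1)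
    (h : Wd D L) : Wd D (p :: L) := by
  intro q hq
  rcases List.mem_cons.1 hq with rfl | hq
  · exact hp
  · exact h q hq

theorem nS_mem_Nh {s : R} (hs : D.Simple s) {n : M} (hn : n ∈ D.nS s) : n ∈ D.Nh :=
  Subgroup.subset_closure (Or.inr ⟨s, hs, hn⟩)

theorem T_le_Nh : D.T ≤ D.Nh := fun t ht => Subgroup.subset_closure (Or.inl ht)

theorem wprod_mem_Nh : ∀ {L : List (R × M)}, Wd D L → wprod L ∈ D.Nh
  | [], _ => by rw [wprod_nil]; exact Subgroup.one_mem _
  | p :: L, h => by
    rw [wprod_cons]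
    exact Subgroup.mul_mem _ (nS_mem_Nh h.head.1 h.head.2) (wprod_mem_Nh h.tail)

theorem conj_mul_eq (a b x : M) : a * b * x * (a * b)⁻¹ = a * (b * x * b⁻¹) * a⁻¹ := by group

theorem wprod_conj_U (hD : IsRGD D) : ∀ {L : List (R × M)}, Wd D L → ∀ r, ∀ x ∈ D.U r,
    wprod L * x * (wprod L)⁻¹ ∈ D.U (wperm D L r)
  | [], _, r, x, hx => by simpa [wprod_nil, wperm_nil] using hx
  | p :: L, h, r, x, hx => by
    rw [wprod_cons, conj_mul_eq, wperm_cons]
    exact hD.nS_conj p.1 h.head.1 p.2 h.head.2 _ _ (wprod_conj_U hD h.tail r x hx)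

theorem wperm_neg (hD : IsRGD D) : ∀ {L : List (R × M)}, Wd D L → ∀ r,
    wperm D L (D.neg r) = D.neg (wperm D L r)
  | [], _, r => rfl
  | p :: L, h, r => by
    rw [wperm_cons, wperm_cons, wperm_neg hD h.tail r, hD.refl_neg p.1 h.head.1]

theorem wprod_conj_T (hN : IsRGDN D) : ∀ {L : List (R × M)}, Wd D L → ∀ t ∈ D.T,
    wprod L * t * (wprod L)⁻¹ ∈ D.T
  | [], _, t, ht => by simpa [wprod_nil] using ht
  | p :: L, h, t, ht => by
    rw [wprod_cons, conj_mul_eq]
    exact hN.nS_conj_T p.1 h.head.1 p.2 h.head.2 _ (wprod_conj_T hN h.tail t ht)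

/-- the exchange step -/
theorem exchange (hD : IsRGD D) (hN : IsRGDN D) : ∀ (L : List (R × M)), Wd D L → ∀ s, D.Simple s →
    ∀ n ∈ D.nS s, ¬ D.Pos (wperm D L s) →
    ∃ t ∈ D.T, ∃ L' : List (R × M), Wd D L' ∧ L'.length + 1 = L.length ∧
      wprod L * n = t * wprod L'
  | [], _, s, hs, n, hn, hneg => by
    exact absurd (hD.simple_pos s hs) hneg
  | p :: L, h, s, hs, n, hn, hneg => by
    obtain ⟨hp1, hp2⟩ := h.head
    rw [wperm_cons] at hneg
    by_cases hβ : D.Pos (wperm D L s)
    · -- the reflection `p.1` makes the positive root `β` negative: `β = p.1` or `alt p.1`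
      have hβ' : wperm D L s = p.1 ∨ wperm D L s = D.alt p.1 := by
        by_contra hcon
        push Not at hcon
        exact hneg (hD.refl_pos p.1 hp1 _ hβ hcon.1 hcon.2)
      have hU : D.U (wperm D L s) = D.U p.1 := by
        rcases hβ' with e | e
        · rw [e]
        · rw [e, hD.U_alt]
      have hUn : D.U (D.neg (wperm D L s)) = D.U (D.neg p.1) := by
        rcases hβ' with e | e
        · rw [e]
        · rw [e, hD.neg_alt, hD.U_alt]
      have hv : wprod L ∈ D.Nh := wprod_mem_Nh h.tail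
      have h1 : ∀ x ∈ D.U s, wprod L * x * (wprod L)⁻¹ ∈ D.U p.1 := by
        intro x hx
        rw [← hU]
        exact wprod_conj_U hD h.tail s x hx
      have h2 : ∀ x ∈ D.U (D.neg s), wprod L * x * (wprod L)⁻¹ ∈ D.U (D.neg p.1) := by
        intro x hx
        rw [← hUn, ← wperm_neg hD h.tail s]
        exact wprod_conj_U hD h.tail (D.neg s) x hx
      have hn' := hN.nS_conj_nS (wprod L) hv s p.1 hs hp1 h1 h2 n hn
      refine ⟨p.2 * (wprod L * n * (wprod L)⁻¹), hN.nS_mul p.1 hp1 p.2 hp2 _ hn', L, h.tail, rfl, ?_⟩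
      rw [wprod_cons]
      group
    · obtain ⟨t, ht, L', hL', hlen, he⟩ := exchange hD hN L h.tail s hs n hn hβ
      refine ⟨p.2 * t * p.2⁻¹, hN.nS_conj_T p.1 hp1 p.2 hp2 t ht, p :: L', Wd.cons ⟨hp1, hp2⟩ hL', ?_, ?_⟩
      · simp only [List.length_cons]; omega
      · rw [wprod_cons, wprod_cons, mul_assoc, he]
        group

theorem conj_T_mul (hD : IsRGD D) {t : M} (ht : t ∈ D.T) (w x : M) {r' : R}
    (h : w * x * w⁻¹ ∈ D.U r') : (t * w) * x * (t * w)⁻¹ ∈ D.U r' := by
  rw [conj_mul_eq]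
  exact hD.T_conj t ht r' _ h

/-- a word which maps positive root subgroups to positive root subgroups lies in the torus -/
theorem wprod_mem_T (hD : IsRGD D) (hN : IsRGDN D) : ∀ (k : ℕ) (L : List (R × M)), L.length = k →
    Wd D L →
    (∀ r r', D.Pos r → (∀ x ∈ D.U r, wprod L * x * (wprod L)⁻¹ ∈ D.U r') → D.Pos r') →
    wprod L ∈ D.T := by
  intro k
  induction k using Nat.strong_induction_on with
  | _ k ih =>
    intro L hlen hL hpos
    rcases List.eq_nil_or_concat L with rfl | ⟨L₀, p, hLeq⟩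
    · rw [wprod_nil]; exact Subgroup.one_mem _
    · rw [List.concat_eq_append] at hLeq
      subst hLeq
      have hL₀ : Wd D L₀ := fun q hq => hL q (by simp [hq])
      have hp : D.Simple p.1 ∧ p.2 ∈ D.nS p.1 := hL p (by simp)
      -- the last root is mapped to a positive root
      have h1 : D.Pos (wperm D (L₀ ++ [p]) p.1) :=
        hpos p.1 _ (hD.simple_pos _ hp.1) (fun x hx => wprod_conj_U hD hL p.1 x hx)
      have e1 : wperm D (L₀ ++ [p]) p.1 = D.neg (wperm D L₀ p.1) := by
        rw [wperm_append, wperm_cons, wperm_nil, hD.refl_self p.1 hp.1, wperm_neg hD hL₀]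
      rw [e1, hD.pos_neg] at h1
      obtain ⟨t, ht, L', hL', hlen', he⟩ := exchange hD hN L₀ hL₀ p.1 hp.1 p.2 hp.2 h1
      have e2 : wprod (L₀ ++ [p]) = t * wprod L' := by
        rw [wprod_append, wprod_cons, wprod_nil, mul_one, he]
      have hlt : L'.length < k := by
        rw [← hlen]
        simp only [List.length_append, List.length_cons, List.length_nil]
        omega
      have hpos' : ∀ r r', D.Pos r → (∀ x ∈ D.U r, wprod L' * x * (wprod L')⁻¹ ∈ D.U r') →
          D.Pos r' := by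
        intro r r' hr hx
        apply hpos r r' hr
        intro x hx'
        rw [e2]
        exact conj_T_mul hD ht _ _ (hx x hx')
      rw [e2]
      exact Subgroup.mul_mem _ ht (ih L'.length hlt L' rfl hL' hpos')

/-- every element of `N̂` is the product of an element of the torus and a word -/
theorem exists_wprod_of_mem_Nh (hD : IsRGD D) (hN : IsRGDN D) {g : M} (hg : g ∈ D.Nh) :
    ∃ t ∈ D.T, ∃ L : List (R × M), Wd D L ∧ g = t * wprod L := by
  have key : ∀ x ∈ (D.T : Set M) ∪ {g | ∃ s, D.Simple s ∧ g ∈ D.nS s}, ∀ y : M,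
      (∃ t ∈ D.T, ∃ L : List (R × M), Wd D L ∧ y = t * wprod L) →
      ∃ t ∈ D.T, ∃ L : List (R × M), Wd D L ∧ x * y = t * wprod L := by
    rintro x (hx | ⟨s, hs, hx⟩) y ⟨t, ht, L, hL, rfl⟩
    · exact ⟨x * t, Subgroup.mul_mem _ hx ht, L, hL, by rw [mul_assoc]⟩
    · refine ⟨x * t * x⁻¹, hN.nS_conj_T s hs x hx t ht, (s, x) :: L, Wd.cons ⟨hs, hx⟩ hL, ?_⟩
      rw [wprod_cons]
      group
  unfold Datum.Nh at hg
  induction hg using Subgroup.closure_induction_left with
  | one => exact ⟨1, Subgroup.one_mem _, [], fun _ h => absurd h (List.not_mem_nil), by simp [wprod_nil]⟩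
  | mul_left x hx y _ ih => exact key x hx y ih
  | inv_mul_cancel x hx y _ ih =>
    apply key x⁻¹ _ y ih
    rcases hx with hx | ⟨s, hs, hx⟩
    · exact Or.inl (Subgroup.inv_mem _ hx)
    · exact Or.inr ⟨s, hs, hD.nS_inv s hs x hx⟩

end DEL

open DEL in
/-- the deletion argument: an element of `N̂` which maps positive root subgroups to positive root
subgroups lies in the torus -/
theorem mem_T_of_pos (hD : IsRGD D) (hN : IsRGDN D) {g : M} (hg : g ∈ D.Nh)
    (hpos : ∀ r r', D.Pos r → (∀ x ∈ D.U r, g * x * g⁻¹ ∈ D.U r') → D.Pos r') : g ∈ D.T := by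
  obtain ⟨t, ht, L, hL, rfl⟩ := exists_wprod_of_mem_Nh hD hN hg
  apply Subgroup.mul_mem _ ht
  apply wprod_mem_T hD hN L.length L rfl hL
  intro r r' hr hx
  apply hpos r r' hr
  intro x hx'
  exact conj_T_mul hD ht _ _ (hx x hx')

end Cfsg.Agent.RGD
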