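import Mathlib
import Cfsg.Agent.Helper2.RGD.Main
import Cfsg.Agent.Helper10.RGD.Del

set_option autoImplicit false
set_option linter.unusedSectionVars false
set_option linter.unusedVariables false

/-! Generic kernel argument for root group data: a homomorphism `ρ` which is injective on `Û T` and
such that the elements of `N̂` mapped into the image Borel subgroup preserve positivity is injective. -/

namespace Cfsg.Agent.RGD

variable {M : Type*} [Group M] {R : Type*} {D : Datum M R}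

/-- the kernel argument -/
theorem ker_eq_bot_of (hD : IsRGD D) (hN : IsRGDN D) {G' : Type*} [Group G'] (ρ : M →* G')
    (B' : Subgroup G') (hB : ∀ b ∈ D.Bh, ρ b ∈ B')
    (hpos : ∀ m ∈ D.Nh, ρ m ∈ B' → ∀ r r', D.Pos r → (∀ x ∈ D.U r, m * x * m⁻¹ ∈ D.U r') → D.Pos r')
    (hsplit : ∀ u ∈ D.Uh, ∀ t ∈ D.T, ρ (u * t) = 1 → u = 1 ∧ t = 1) : ρ.ker = ⊥ := by
  rw [Subgroup.eq_bot_iff_forall]
  intro x hx
  rw [MonoidHom.mem_ker] at hx
  obtain ⟨u, hu, k, hk, m, hm, u', hu', k', hk', rfl⟩ := exists_decomp hD x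
  have huk : u * k ∈ D.Bh :=
    Subgroup.mul_mem _ (Subgroup.mem_sup_left hu) (Subgroup.mem_sup_right hk)
  have huk' : u' * k' ∈ D.Bh :=
    Subgroup.mul_mem _ (Subgroup.mem_sup_left hu') (Subgroup.mem_sup_right hk')
  have hm' : ρ m ∈ B' := by
    have e : ρ m = (ρ (u * k))⁻¹ * (ρ (u' * k'))⁻¹ := by
      have h1 : ρ (u * k) * ρ m * ρ (u' * k') = 1 := by
        rw [← map_mul, ← map_mul, ← hx]
      have h2 : ρ m = (ρ (u * k))⁻¹ * (ρ (u * k) * ρ m * ρ (u' * k')) * (ρ (u' * k'))⁻¹ := by group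
      rw [h2, h1, mul_one]
    rw [e]
    exact Subgroup.mul_mem _ (Subgroup.inv_mem _ (hB _ huk)) (Subgroup.inv_mem _ (hB _ huk'))
  have hmT : m ∈ D.T := mem_T_of_pos hD hN hm (hpos m hm hm')
  have hkm : k * m ∈ D.T := Subgroup.mul_mem _ hk hmT
  have e : u * k * m * (u' * k') = (u * ((k * m) * u' * (k * m)⁻¹)) * (k * m * k') := by group
  rw [e] at hx ⊢
  obtain ⟨h1, h2⟩ := hsplit _ (Subgroup.mul_mem _ hu (T_conj_mem_Uh hD hkm hu')) _
    (Subgroup.mul_mem _ hkm hk') hx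
  rw [h1, h2, mul_one]

/-- the kernel argument for a homomorphism into a monoid, without a Borel subgroup of the target -/
theorem eq_one_of_map_eq_one (hD : IsRGD D) (hN : IsRGDN D) {N : Type*} [Monoid N] (ρ : M →* N)
    (hpos : ∀ m ∈ D.Nh, ∀ b ∈ D.Bh, ρ m = ρ b → ∀ r r', D.Pos r →
      (∀ x ∈ D.U r, m * x * m⁻¹ ∈ D.U r') → D.Pos r')
    (hsplit : ∀ u ∈ D.Uh, ∀ t ∈ D.T, ρ (u * t) = 1 → u = 1 ∧ t = 1) {x : M} (hx : ρ x = 1) :
    x = 1 := by
  obtain ⟨u, hu, k, hk, m, hm, u', hu', k', hk', rfl⟩ := exists_decomp hD x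
  have huk : u * k ∈ D.Bh :=
    Subgroup.mul_mem _ (Subgroup.mem_sup_left hu) (Subgroup.mem_sup_right hk)
  have huk' : u' * k' ∈ D.Bh :=
    Subgroup.mul_mem _ (Subgroup.mem_sup_left hu') (Subgroup.mem_sup_right hk')
  have hb : (u * k)⁻¹ * (u' * k')⁻¹ ∈ D.Bh :=
    Subgroup.mul_mem _ (Subgroup.inv_mem _ huk) (Subgroup.inv_mem _ huk')
  have hm' : ρ m = ρ ((u * k)⁻¹ * (u' * k')⁻¹) := by
    have e : m = (u * k)⁻¹ * (u * k * m * (u' * k')) * (u' * k')⁻¹ := by group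
    conv_lhs => rw [e]
    rw [map_mul, map_mul, hx, mul_one, ← map_mul]
  have hmT : m ∈ D.T := mem_T_of_pos hD hN hm (hpos m hm _ hb hm')
  have hkm : k * m ∈ D.T := Subgroup.mul_mem _ hk hmT
  have e : u * k * m * (u' * k') = (u * ((k * m) * u' * (k * m)⁻¹)) * (k * m * k') := by group
  rw [e] at hx ⊢
  obtain ⟨h1, h2⟩ := hsplit _ (Subgroup.mul_mem _ hu (T_conj_mem_Uh hD hkm hu')) _
    (Subgroup.mul_mem _ hkm hk') hx
  rw [h1, h2, mul_one]

end Cfsg.Agent.RGD
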